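import Mathlib

/-!
# Separable elements over an algebraically closed field are combinations of idempotents

For a commutative algebra `A` over an algebraically closed field `k`, an element whose minimal
polynomial is separable is a `k`-linear combination of idempotents (Lagrange interpolation at the
roots of the minimal polynomial); conversely every idempotent is separable.
-/

set_option autoImplicit false
universe u v

namespace Groth.Agent.H83.SepHopf

open Polynomial

/-- the span of the idempotents -/
def idemSpan (k : Type u) [Field k] (A : Type v) [CommRing A] [Algebra k A] : Submodule k A :=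
  Submodule.span k {e : A | IsIdempotentElem e}

section sep
variable {k : Type u} [Field k] {A : Type v} [CommRing A] [Algebra k A]

theorem isSeparable_of_isIdempotentElem {e : A} (he : IsIdempotentElem e) : IsSeparable k e := by
  have h1 : aeval e (X * (X - C (1 : k)) : k[X]) = 0 := by
    rw [map_mul, map_sub, aeval_X, aeval_C, map_one, mul_sub, he.eq, mul_one, sub_self]
  have h2 : (X * (X - C (1 : k)) : k[X]).Separable := by
    apply Separable.mul separable_X (separable_X_sub_C)
    exact ⟨1, -1, by rw [map_one]; ring⟩
  exact h2.of_dvd (minpoly.dvd k e h1)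

variable [IsAlgClosed k]

theorem aeval_eq_zero_of_eval_roots {b : A} (hb : IsSeparable k b) (q : k[X])
    (h : ∀ c ∈ (minpoly k b).roots, q.eval c = 0) : aeval b q = 0 := by
  by_cases hq : q = 0
  · rw [hq, map_zero]
  have hm0 : minpoly k b ≠ 0 := Separable.ne_zero hb
  have hdvd : minpoly k b ∣ q := by
    apply (IsAlgClosed.splits _).dvd_of_roots_le_roots hm0
    rw [Multiset.le_iff_subset (nodup_roots hb)]
    intro c hc
    rw [mem_roots hq]
    exact h c hc
  obtain ⟨r, rfl⟩ := hdvd
  rw [map_mul, minpoly.aeval, zero_mul]

theorem mem_idemSpan_of_isSeparable {b : A} (hb : IsSeparable k b) : b ∈ idemSpan k A := by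
  classical
  set s : Finset k := (minpoly k b).roots.toFinset with hs
  have hinj : Set.InjOn (id : k → k) s := Function.injective_id.injOn
  have hself : ∀ c ∈ s, (Lagrange.basis s id c).eval c = 1 := fun c hc =>
    Lagrange.eval_basis_self (v := id) hinj hc
  have hne : ∀ i c, i ≠ c → c ∈ s → (Lagrange.basis s id i).eval c = 0 := fun i c hic hc =>
    Lagrange.eval_basis_of_ne (v := id) hic hc
  have hidem : ∀ i ∈ s, IsIdempotentElem (aeval b (Lagrange.basis s id i)) := by
    intro i hi
    have := aeval_eq_zero_of_eval_roots hb
      (Lagrange.basis s id i * Lagrange.basis s id i - Lagrange.basis s id i) ?_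
    · rw [map_sub, map_mul, sub_eq_zero] at this
      exact this
    intro c hc
    have hc' : c ∈ s := Multiset.mem_toFinset.mpr hc
    rw [eval_sub, eval_mul]
    by_cases hci : i = c
    · subst hci
      rw [hself i hc']
      ring
    · rw [hne i c hci hc']
      ring
  have hb_eq : b = ∑ i ∈ s, i • aeval b (Lagrange.basis s id i) := by
    have := aeval_eq_zero_of_eval_roots hb (X - ∑ i ∈ s, C i * Lagrange.basis s id i) ?_
    · rw [map_sub, aeval_X, sub_eq_zero, map_sum] at this
      refine this.trans ?_
      apply Finset.sum_congr rfl
      intro i _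
      rw [map_mul, aeval_C, Algebra.smul_def]
    intro c hc
    have hc' : c ∈ s := Multiset.mem_toFinset.mpr hc
    rw [eval_sub, eval_X, eval_finsetSum, Finset.sum_eq_single c]
    · rw [eval_mul, eval_C, hself c hc', mul_one, sub_self]
    · intro j _ hjc
      rw [eval_mul, hne j c hjc hc', mul_zero]
    · intro h
      exact absurd hc' h
  rw [hb_eq]
  apply Submodule.sum_mem
  intro i hi
  apply Submodule.smul_mem
  apply Submodule.subset_span
  exact hidem i hi

end sep

end Groth.Agent.H83.SepHopf
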