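import Mathlib
import Groth.Agent.H83.IdComp.TensorConn
import Groth.Agent.H83.SepHopf.SepIdem

/-!
# Idempotents of a tensor product over an algebraically closed field

Every idempotent of `C ⊗[k] D` (commutative algebras over an algebraically closed field `k`) is a
`k`-linear combination of pure tensors of idempotents.
-/

set_option autoImplicit false
universe u v w

namespace Groth.Agent.H83.SepHopf

open TensorProduct

section prim
variable {R : Type*} [CommRing R]

/-- primitive idempotents -/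
def IsPrim (e : R) : Prop :=
  IsIdempotentElem e ∧ e ≠ 0 ∧ ∀ g : R, IsIdempotentElem g → g * e = g → g = 0 ∨ g = e

theorem mul_eq_zero_of_mem_span {e : R} (he : IsIdempotentElem e) {x : R}
    (hx : x ∈ Ideal.span {1 - e}) : x * e = 0 := by
  obtain ⟨y, rfl⟩ := Ideal.mem_span_singleton'.mp hx
  rw [mul_assoc, sub_mul, one_mul, he.eq, sub_self, mul_zero]

theorem span_lt {e g : R} (he : IsIdempotentElem e) (hge : g * e = g)
    (hne : g ≠ e) : Ideal.span {1 - e} < Ideal.span {1 - g} := by
  rw [lt_iff_le_not_ge]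
  constructor
  · rw [Ideal.span_singleton_le_iff_mem]
    refine Ideal.mem_span_singleton'.mpr ⟨1 - e, ?_⟩
    calc (1 - e) * (1 - g) = 1 - e - g + g * e := by ring
      _ = 1 - e := by rw [hge]; ring
  · intro hle
    have h1 : (1 - g) ∈ Ideal.span {1 - e} := hle (Ideal.subset_span rfl)
    have h2 := mul_eq_zero_of_mem_span he h1
    rw [sub_mul, one_mul, hge, sub_eq_zero] at h2
    exact hne h2.symm

theorem mem_closure_prim_aux [IsNoetherianRing R] (I : Ideal R) :
    ∀ e : R, IsIdempotentElem e → Ideal.span {1 - e} = I →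
      e ∈ AddSubmonoid.closure {g : R | IsPrim g} := by
  induction I using WellFoundedGT.induction with
  | ind I ih =>
    intro e he hI
    by_cases h0 : e = 0
    · rw [h0]
      exact zero_mem _
    by_cases hp : IsPrim e
    · exact AddSubmonoid.subset_closure hp
    have : ∃ g : R, IsIdempotentElem g ∧ g * e = g ∧ g ≠ 0 ∧ g ≠ e := by
      by_contra hcon
      apply hp
      refine ⟨he, h0, ?_⟩
      intro g hg hge
      by_contra hh
      rw [not_or] at hh
      exact hcon ⟨g, hg, hge, hh.1, hh.2⟩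
    obtain ⟨g, hg, hge, hg0, hgne⟩ := this
    have hg' : IsIdempotentElem (e - g) := by
      unfold IsIdempotentElem
      calc (e - g) * (e - g) = e * e - 2 * (g * e) + g * g := by ring
        _ = e - g := by rw [he.eq, hge, hg.eq]; ring
    have hge' : (e - g) * e = e - g := by
      rw [sub_mul, he.eq, hge]
    have hne' : e - g ≠ e := by
      intro h
      apply hg0
      have : e - g = e - 0 := by rw [h, sub_zero]
      exact sub_right_injective this
    have e1 : e = g + (e - g) := by ring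
    rw [e1]
    apply add_mem
    · exact ih _ (hI ▸ span_lt he hge hgne) g hg rfl
    · exact ih _ (hI ▸ span_lt he hge' hne') (e - g) hg' rfl

theorem mem_closure_prim [IsNoetherianRing R] (e : R) (he : IsIdempotentElem e) :
    e ∈ AddSubmonoid.closure {g : R | IsPrim g} :=
  mem_closure_prim_aux _ e he rfl

theorem quot_nontrivial {e : R} (he : IsIdempotentElem e) (h0 : e ≠ 0) :
    Nontrivial (R ⧸ Ideal.span {1 - e}) := by
  rw [Ideal.Quotient.nontrivial_iff]
  intro h
  have h1 : (1 : R) ∈ Ideal.span {1 - e} := h ▸ Submodule.mem_top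
  have h2 := mul_eq_zero_of_mem_span he h1
  rw [one_mul] at h2
  exact h0 h2

theorem quot_idem {e : R} (hp : IsPrim e) (x : R ⧸ Ideal.span {1 - e})
    (hx : IsIdempotentElem x) : x = 0 ∨ x = 1 := by
  obtain ⟨y, rfl⟩ := Ideal.Quotient.mk_surjective x
  have h1 : (y * y - y) * e = 0 := by
    apply mul_eq_zero_of_mem_span hp.1
    rw [← Ideal.Quotient.eq, map_mul]
    exact hx
  have hg : IsIdempotentElem (y * e) := by
    unfold IsIdempotentElem
    calc y * e * (y * e) = (y * y - y) * e * e + y * (e * e) := by ring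
      _ = y * e := by rw [h1, hp.1.eq]; ring
  have hge : y * e * e = y * e := by rw [mul_assoc, hp.1.eq]
  have hmk : Ideal.Quotient.mk (Ideal.span {1 - e}) (y * e) =
      Ideal.Quotient.mk (Ideal.span {1 - e}) y := by
    rw [Ideal.Quotient.eq]
    exact Ideal.mem_span_singleton'.mpr ⟨-y, by ring⟩
  rcases hp.2.2 _ hg hge with h | h
  · left
    rw [← hmk, h, map_zero]
  · right
    rw [← hmk, h, ← map_one (Ideal.Quotient.mk (Ideal.span {1 - e})), Ideal.Quotient.eq]
    exact Ideal.mem_span_singleton'.mpr ⟨-1, by ring⟩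

theorem mul_eq_zero_of_mem_map {S : Type*} [CommRing S] (φ : R →+* S) (I : Ideal R) (w : S)
    (h : ∀ c ∈ I, φ c * w = 0) : ∀ z ∈ I.map φ, z * w = 0 := by
  intro z hz
  refine Submodule.span_induction ?_ ?_ ?_ ?_ hz
  · rintro _ ⟨c, hc, rfl⟩
    exact h c hc
  · rw [zero_mul]
  · intro x y _ _ hx hy
    rw [add_mul, hx, hy, add_zero]
  · intro a x _ hx
    rw [smul_eq_mul, mul_assoc, hx, mul_zero]

end prim

section ft
variable {k : Type u} [Field k] [IsAlgClosed k] {C : Type v} {D : Type w} [CommRing C]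
  [CommRing D] [Algebra k C] [Algebra k D]

/-- the span of the pure tensors of idempotents -/
def idemTSpan (k : Type u) [Field k] (C : Type v) (D : Type w) [CommRing C]
    [CommRing D] [Algebra k C] [Algebra k D] : Submodule k (C ⊗[k] D) :=
  Submodule.span k {t | ∃ (e : C) (f : D), IsIdempotentElem e ∧ IsIdempotentElem f ∧
    t = e ⊗ₜ[k] f}

theorem exists_pt [Algebra.FiniteType k C] [Nontrivial C] : Nonempty (C →ₐ[k] k) := by
  obtain ⟨m, hm⟩ := Ideal.exists_maximal C
  obtain ⟨g, _⟩ := Groth.Agent.H83.RedSmooth.exists_pt_ker_eq (k := k) m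
  exact ⟨g⟩

theorem prim_case [Algebra.FiniteType k C] [Algebra.FiniteType k D] {e : C} {f : D}
    (he : IsPrim e) (hf : IsPrim f) (E : C ⊗[k] D) (hE : IsIdempotentElem E) :
    E * (e ⊗ₜ[k] f) = 0 ∨ E * (e ⊗ₜ[k] f) = e ⊗ₜ[k] f := by
  have hn1 : Nontrivial (C ⧸ Ideal.span {1 - e}) := quot_nontrivial he.1 he.2.1
  have hn2 : Nontrivial (D ⧸ Ideal.span {1 - f}) := quot_nontrivial hf.1 hf.2.1
  have hs1 := Ideal.Quotient.mkₐ_surjective k (Ideal.span {1 - e})
  have hs2 := Ideal.Quotient.mkₐ_surjective k (Ideal.span {1 - f})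
  have hf1 : Algebra.FiniteType k (C ⧸ Ideal.span {1 - e}) :=
    Algebra.FiniteType.of_surjective (Ideal.Quotient.mkₐ k (Ideal.span {1 - e})) hs1
  have hf2 : Algebra.FiniteType k (D ⧸ Ideal.span {1 - f}) :=
    Algebra.FiniteType.of_surjective (Ideal.Quotient.mkₐ k (Ideal.span {1 - f})) hs2
  obtain ⟨x₀⟩ := exists_pt (k := k) (C := C ⧸ Ideal.span {1 - e})
  obtain ⟨y₀⟩ := exists_pt (k := k) (C := D ⧸ Ideal.span {1 - f})
  set Φ := Algebra.TensorProduct.map (Ideal.Quotient.mkₐ k (Ideal.span {1 - e}))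
    (Ideal.Quotient.mkₐ k (Ideal.span {1 - f})) with hΦ
  have hker : ∀ z, Φ z = 0 → z * (e ⊗ₜ[k] f) = 0 := by
    intro z hz
    have hz' : z ∈ RingHom.ker Φ := hz
    have hk1 : RingHom.ker (Ideal.Quotient.mkₐ k (Ideal.span {1 - e})) = Ideal.span {1 - e} := by
      ext x
      rw [RingHom.mem_ker, Ideal.Quotient.mkₐ_eq_mk, Ideal.Quotient.eq_zero_iff_mem]
    have hk2 : RingHom.ker (Ideal.Quotient.mkₐ k (Ideal.span {1 - f})) = Ideal.span {1 - f} := by
      ext x
      rw [RingHom.mem_ker, Ideal.Quotient.mkₐ_eq_mk, Ideal.Quotient.eq_zero_iff_mem]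
    rw [hΦ, Algebra.TensorProduct.map_ker _ _ hs1 hs2, hk1, hk2] at hz'
    obtain ⟨z₁, hz₁, z₂, hz₂, rfl⟩ := Submodule.mem_sup.mp hz'
    rw [add_mul]
    rw [mul_eq_zero_of_mem_map _ _ (e ⊗ₜ[k] f) ?_ z₁ hz₁,
      mul_eq_zero_of_mem_map _ _ (e ⊗ₜ[k] f) ?_ z₂ hz₂, add_zero]
    · intro c hc
      show (1 : C) ⊗ₜ[k] c * (e ⊗ₜ[k] f) = 0
      rw [Algebra.TensorProduct.tmul_mul_tmul, mul_eq_zero_of_mem_span hf.1 hc, tmul_zero]
    · intro c hc
      show c ⊗ₜ[k] (1 : D) * (e ⊗ₜ[k] f) = 0
      rw [Algebra.TensorProduct.tmul_mul_tmul, mul_eq_zero_of_mem_span he.1 hc, zero_tmul]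
  rcases IdComp.idem_tensor (quot_idem he) (quot_idem hf) x₀ y₀ (Φ E) (hE.map Φ) with h | h
  · left
    exact hker E h
  · right
    have h1 := hker (1 - E) (by rw [map_sub, map_one, h, sub_self])
    rw [sub_mul, one_mul, sub_eq_zero] at h1
    exact h1.symm

theorem idem_mem_of_finiteType [Algebra.FiniteType k C] [Algebra.FiniteType k D]
    (E : C ⊗[k] D) (hE : IsIdempotentElem E) : E ∈ idemTSpan k C D := by
  have hC : IsNoetherianRing C := Algebra.FiniteType.isNoetherianRing k C
  have hD : IsNoetherianRing D := Algebra.FiniteType.isNoetherianRing k D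
  have h1 := mem_closure_prim (1 : C) IsIdempotentElem.one
  have h2 := mem_closure_prim (1 : D) IsIdempotentElem.one
  have key : ∀ x ∈ AddSubmonoid.closure {g : C | IsPrim g},
      ∀ y ∈ AddSubmonoid.closure {g : D | IsPrim g}, E * (x ⊗ₜ[k] y) ∈ idemTSpan k C D := by
    intro x hx
    induction hx using AddSubmonoid.closure_induction with
    | mem e he =>
      intro y hy
      induction hy using AddSubmonoid.closure_induction with
      | mem f hf =>
        rcases prim_case he hf E hE with h | h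
        · rw [h]
          exact zero_mem _
        · rw [h]
          exact Submodule.subset_span ⟨e, f, he.1, hf.1, rfl⟩
      | zero =>
        rw [tmul_zero, mul_zero]
        exact zero_mem _
      | add y₁ y₂ _ _ h₁ h₂ =>
        rw [tmul_add, mul_add]
        exact add_mem h₁ h₂
    | zero =>
      intro y _
      rw [zero_tmul, mul_zero]
      exact zero_mem _
    | add x₁ x₂ _ _ h₁ h₂ =>
      intro y hy
      rw [add_tmul, mul_add]
      exact add_mem (h₁ y hy) (h₂ y hy)
  have h3 := key 1 h1 1 h2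
  rwa [← Algebra.TensorProduct.one_def, mul_one] at h3

end ft

end Groth.Agent.H83.SepHopf
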