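import Mathlib
import Groth.Agent.H83.SepHopf.IdemTensor

/-!
# Idempotents of a tensor product: reduction to finitely generated subalgebras
-/

set_option autoImplicit false
universe u v w

namespace Groth.Agent.H83.SepHopf

open TensorProduct

section gen
variable {k : Type u} [Field k] {C : Type v} {D : Type w} [CommRing C]
  [CommRing D] [Algebra k C] [Algebra k D]

theorem range_map_mono {C₁ C₂ : Subalgebra k C} {D₁ D₂ : Subalgebra k D} (hC : C₁ ≤ C₂)
    (hD : D₁ ≤ D₂) : (Algebra.TensorProduct.map C₁.val D₁.val).range ≤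
      (Algebra.TensorProduct.map C₂.val D₂.val).range := by
  rintro _ ⟨t, rfl⟩
  refine ⟨Algebra.TensorProduct.map (Subalgebra.inclusion hC) (Subalgebra.inclusion hD) t, ?_⟩
  have := Algebra.TensorProduct.map_comp (R := k) (S := k) C₂.val (Subalgebra.inclusion hC)
    D₂.val (Subalgebra.inclusion hD)
  rw [Subalgebra.val_comp_inclusion, Subalgebra.val_comp_inclusion] at this
  rw [this]
  rfl

theorem exists_fg (t : C ⊗[k] D) : ∃ (C' : Subalgebra k C) (D' : Subalgebra k D),
    C'.FG ∧ D'.FG ∧ t ∈ (Algebra.TensorProduct.map C'.val D'.val).range := by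
  classical
  induction t with
  | zero => exact ⟨⊥, ⊥, Subalgebra.fg_bot, Subalgebra.fg_bot, zero_mem _⟩
  | tmul c d =>
    refine ⟨Algebra.adjoin k {c}, Algebra.adjoin k {d}, ?_, ?_, ?_⟩
    · have := Subalgebra.fg_adjoin_finset (R := k) ({c} : Finset C)
      rwa [Finset.coe_singleton] at this
    · have := Subalgebra.fg_adjoin_finset (R := k) ({d} : Finset D)
      rwa [Finset.coe_singleton] at this
    · refine ⟨(⟨c, Algebra.subset_adjoin rfl⟩ : Algebra.adjoin k {c}) ⊗ₜ[k]
        (⟨d, Algebra.subset_adjoin rfl⟩ : Algebra.adjoin k {d}), ?_⟩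
      rfl
  | add x y hx hy =>
    obtain ⟨C₁, D₁, hC₁, hD₁, h₁⟩ := hx
    obtain ⟨C₂, D₂, hC₂, hD₂, h₂⟩ := hy
    refine ⟨C₁ ⊔ C₂, D₁ ⊔ D₂, hC₁.sup hC₂, hD₁.sup hD₂, ?_⟩
    exact add_mem (range_map_mono le_sup_left le_sup_left h₁)
      (range_map_mono le_sup_right le_sup_right h₂)

variable [IsAlgClosed k]

/-- every idempotent of `C ⊗ D` is a combination of pure tensors of idempotents. -/
theorem idem_mem (E : C ⊗[k] D) (hE : IsIdempotentElem E) : E ∈ idemTSpan k C D := by
  obtain ⟨C', D', hC', hD', E', rfl⟩ := exists_fg E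
  have h1 : Algebra.FiniteType k C' := (Subalgebra.fg_iff_finiteType C').mp hC'
  have h2 : Algebra.FiniteType k D' := (Subalgebra.fg_iff_finiteType D').mp hD'
  have hinj : Function.Injective (Algebra.TensorProduct.map C'.val D'.val) :=
    TensorProduct.map_injective_of_flat_flat C'.val.toLinearMap D'.val.toLinearMap
      Subtype.val_injective Subtype.val_injective
  have hE' : IsIdempotentElem E' := by
    apply hinj
    rw [map_mul]
    exact hE
  have h3 := idem_mem_of_finiteType E' hE'
  have h4 : idemTSpan k C' D' ≤ (idemTSpan k C D).comap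
      (Algebra.TensorProduct.map C'.val D'.val).toLinearMap := by
    apply Submodule.span_le.mpr
    rintro _ ⟨e, f, he, hf, rfl⟩
    exact Submodule.subset_span ⟨e.1, f.1, he.map C'.val, hf.map D'.val, rfl⟩
  exact h4 h3

end gen

end Groth.Agent.H83.SepHopf
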