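import Mathlib
import Groth.Prelude.Def_SGA3
import Groth.Agent.H83.SepHopf.IdemGen
import Groth.Agent.H93.TakeuchiCoinv

/-!
# The subalgebra of separable elements of a commutative Hopf algebra is a Hopf subalgebra

Over an algebraically closed field, the separable elements of a commutative Hopf algebra form a
Hopf subalgebra (`sep_hopf`); the intersection of two Hopf subalgebras is a Hopf subalgebra
(`hopf_inf`).
-/

set_option autoImplicit false
universe u v w

namespace Groth.Agent.H83.SepHopf

open TensorProduct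

section inter
variable {k : Type u} [Field k] {M : Type v} [AddCommGroup M] [Module k M]

theorem range_map_le_rTensor (P : Submodule k M) :
    LinearMap.range (TensorProduct.map P.subtype P.subtype) ≤
      LinearMap.range (P.subtype.rTensor M) := by
  rw [← LinearMap.rTensor_comp_lTensor]
  exact LinearMap.range_comp_le_range _ _

theorem range_map_le_lTensor (P : Submodule k M) :
    LinearMap.range (TensorProduct.map P.subtype P.subtype) ≤
      LinearMap.range (P.subtype.lTensor M) := by
  rw [← LinearMap.lTensor_comp_rTensor]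
  exact LinearMap.range_comp_le_range _ _

theorem mem_range_map_inf (P Q T : Submodule k M) (hT : ∀ x, x ∈ P → x ∈ Q → x ∈ T)
    (x : M ⊗[k] M)
    (hP : x ∈ LinearMap.range (TensorProduct.map P.subtype P.subtype))
    (hQ : x ∈ LinearMap.range (TensorProduct.map Q.subtype Q.subtype)) :
    x ∈ LinearMap.range (TensorProduct.map T.subtype T.subtype) := by
  apply Groth.Agent.H93.Takeuchi.mem_range_map_of_mem_of_mem
  · rw [Groth.Agent.H82.Chev.mem_range_rTensor_subtype_iff]
    intro ψ
    apply hT
    · exact (Groth.Agent.H82.Chev.mem_range_rTensor_subtype_iff P x).mp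
        (range_map_le_rTensor P hP) ψ
    · exact (Groth.Agent.H82.Chev.mem_range_rTensor_subtype_iff Q x).mp
        (range_map_le_rTensor Q hQ) ψ
  · rw [Groth.Agent.H93.Takeuchi.mem_range_lTensor_subtype_iff]
    intro ψ
    apply hT
    · exact (Groth.Agent.H93.Takeuchi.mem_range_lTensor_subtype_iff P x).mp
        (range_map_le_lTensor P hP) ψ
    · exact (Groth.Agent.H93.Takeuchi.mem_range_lTensor_subtype_iff Q x).mp
        (range_map_le_lTensor Q hQ) ψ

end inter

section hopf
variable {k : Type u} [Field k] {A : Type u} [CommRing A] [HopfAlgebra k A]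

theorem hopf_inf {U W : Subalgebra k A} (hU : SGA3.IsHopfSubalgebra k A U)
    (hW : SGA3.IsHopfSubalgebra k A W) : SGA3.IsHopfSubalgebra k A (U ⊓ W) := by
  refine ⟨?_, ?_⟩
  · intro b hb
    exact mem_range_map_inf (Subalgebra.toSubmodule U) (Subalgebra.toSubmodule W)
      (Subalgebra.toSubmodule (U ⊓ W)) (fun x hx hy => ⟨hx, hy⟩) _ (hU.1 b hb.1) (hW.1 b hb.2)
  · intro b hb
    exact ⟨hU.2 b hb.1, hW.2 b hb.2⟩

variable [IsAlgClosed k]

theorem sep_hopf (B₀ : Subalgebra k A) (hB₀ : ∀ a : A, a ∈ B₀ ↔ IsSeparable k a) :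
    SGA3.IsHopfSubalgebra k A B₀ := by
  have hidem : ∀ e : A, IsIdempotentElem e → e ∈ B₀ := fun e he =>
    (hB₀ e).mpr (isSeparable_of_isIdempotentElem he)
  have hle : Subalgebra.toSubmodule B₀ ≤ idemSpan k A := fun b hb =>
    mem_idemSpan_of_isSeparable ((hB₀ b).mp hb)
  refine ⟨?_, ?_⟩
  · intro b hb
    have h1 : idemSpan k A ≤ (LinearMap.range
        (TensorProduct.map B₀.val.toLinearMap B₀.val.toLinearMap)).comap
          (CoalgebraStruct.comul (R := k) (A := A)) := by
      apply Submodule.span_le.mpr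
      intro e he
      have h2 : IsIdempotentElem (CoalgebraStruct.comul (R := k) (A := A) e) :=
        he.map (Bialgebra.comulAlgHom k A)
      have h3 := idem_mem _ h2
      have h4 : idemTSpan k A A ≤ LinearMap.range
          (TensorProduct.map B₀.val.toLinearMap B₀.val.toLinearMap) := by
        apply Submodule.span_le.mpr
        rintro _ ⟨e', f', he', hf', rfl⟩
        exact ⟨(⟨e', hidem e' he'⟩ : B₀) ⊗ₜ[k] (⟨f', hidem f' hf'⟩ : B₀), rfl⟩
      exact h4 h3
    exact h1 (hle hb)
  · intro b hb
    have h1 : idemSpan k A ≤ (Subalgebra.toSubmodule B₀).comap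
        (HopfAlgebraStruct.antipode (R := k) (A := A)) := by
      apply Submodule.span_le.mpr
      intro e he
      apply hidem
      unfold IsIdempotentElem
      rw [← HopfAlgebra.antipode_mul_distrib, he.eq]
    exact h1 (hle hb)

/-- the main statement: `B₀ ⊓ C` is the greatest cocommutative Hopf subalgebra inside `B₀`. -/
theorem main (B₀ : Subalgebra k A) (hB₀ : ∀ a : A, a ∈ B₀ ↔ IsSeparable k a)
    (C : Subalgebra k A) (hC : SGA3.IsHopfSubalgebra k A C)
    (hCc : ∀ c ∈ C, TensorProduct.comm k A A (Coalgebra.comul c) = Coalgebra.comul c)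
    (hCmax : ∀ D : Subalgebra k A, SGA3.IsHopfSubalgebra k A D →
      (∀ d ∈ D, TensorProduct.comm k A A (Coalgebra.comul d) = Coalgebra.comul d) → D ≤ C) :
    IsGreatest {D : Subalgebra k A | SGA3.IsHopfSubalgebra k A D ∧
      (∀ d ∈ D, TensorProduct.comm k A A (Coalgebra.comul d) = Coalgebra.comul d) ∧ D ≤ B₀}
      (B₀ ⊓ C) := by
  refine ⟨⟨hopf_inf (sep_hopf B₀ hB₀) hC, fun d hd => hCc d hd.2, inf_le_left⟩, ?_⟩
  rintro D ⟨hD, hDc, hDB⟩
  exact le_inf hDB (hCmax D hD hDc)

end hopf

end Groth.Agent.H83.SepHopf
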